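import Groth.Agent.QFUnivLib.Model

/-!
# The universal finite clopen piece of a quasi-finite algebra
-/

universe u
set_option autoImplicit false
open TensorProduct

namespace Groth.Agent.QFUnivLib

variable {R B C : Type u} [CommRing R] [CommRing B] [CommRing C] [Algebra R B] [Algebra R C]

/-- Universal vanishing of an element of a finitely presented module, by finitely presented data. -/
theorem exists_universal_vanishing [Module.FinitePresentation R C] (P : Type u) [CommRing P] [Algebra R P]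
    [Algebra.FinitePresentation R P] (m : P ⊗[R] C) :
    ∃ (P₂ : Type u) (_ : CommRing P₂) (_ : Algebra R P₂) (π : P →ₐ[R] P₂), Algebra.FinitePresentation R P₂ ∧
      Algebra.TensorProduct.map π (AlgHom.id R C) m = 0 ∧
      ∀ (R' : Type u) [CommRing R'] [Algebra R R'] (φ : P →ₐ[R] R'),
        Algebra.TensorProduct.map φ (AlgHom.id R C) m = 0 → ∃ φ₂ : P₂ →ₐ[R] R', φ₂.comp π = φ := by
  classical
  obtain ⟨n, K, eK, hK⟩ := Module.FinitePresentation.exists_fin R C
  let π₀ : (Fin n → R) →ₗ[R] C := eK.symm.toLinearMap.comp K.mkQ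
  have hπ₀ : Function.Surjective π₀ := eK.symm.surjective.comp (Submodule.mkQ_surjective K)
  have hker : ∀ w, π₀ w = 0 ↔ w ∈ K := fun w => by
    show eK.symm (K.mkQ w) = 0 ↔ _
    rw [LinearEquiv.map_eq_zero_iff, Submodule.mkQ_apply, Submodule.Quotient.mk_eq_zero]
  obtain ⟨q, r, hr⟩ := Submodule.fg_iff_exists_fin_generating_family.1 hK
  let μ : Fin n → C := fun l => π₀ (Pi.single l 1)
  have hπ₀sum : ∀ w, π₀ w = ∑ l, w l • μ l := fun w => by
    conv_lhs => rw [pi_eq_sum_univ' w]
    rw [map_sum]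
    exact Finset.sum_congr rfl fun l _ => map_smul π₀ _ _
  have hspan : Submodule.span R (Set.range μ) = ⊤ := eq_top_iff.2 fun c _ => by
    obtain ⟨w, rfl⟩ := hπ₀ c
    rw [hπ₀sum]
    exact Submodule.sum_mem _ fun l _ => Submodule.smul_mem _ _ (Submodule.subset_span ⟨l, rfl⟩)
  obtain ⟨v, hv⟩ : ∃ v : Fin n → P, m = ∑ l, v l ⊗ₜ μ l := by
    induction m with
    | zero => exact ⟨0, by simp⟩
    | tmul p c =>
      obtain ⟨w, rfl⟩ := hπ₀ c
      exact ⟨fun l => w l • p, by rw [hπ₀sum, tmul_sum]; exact Finset.sum_congr rfl fun l _ => (smul_tmul _ _ _).symm⟩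
    | add x y hx hy =>
      obtain ⟨a, ha⟩ := hx
      obtain ⟨b, hb⟩ := hy
      exact ⟨a + b, by rw [ha, hb, ← Finset.sum_add_distrib]; exact Finset.sum_congr rfl fun l _ => (add_tmul _ _ _).symm⟩
  let eq : Fin n → MvPolynomial (Fin q) P := fun l =>
    MvPolynomial.C (v l) - ∑ k, r k l • MvPolynomial.X k
  let I : Ideal (MvPolynomial (Fin q) P) := Ideal.span (Set.range eq)
  have : Algebra.FinitePresentation P (MvPolynomial (Fin q) P ⧸ I) :=
    Algebra.FinitePresentation.quotient (Submodule.fg_span (Set.finite_range _))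
  refine ⟨MvPolynomial (Fin q) P ⧸ I, inferInstance, inferInstance,
    IsScalarTower.toAlgHom R P (MvPolynomial (Fin q) P ⧸ I), Algebra.FinitePresentation.trans R P _, ?_, ?_⟩
  · let y : Fin q → MvPolynomial (Fin q) P ⧸ I := fun k => Ideal.Quotient.mk I (MvPolynomial.X k)
    have hvl : ∀ l, algebraMap P (MvPolynomial (Fin q) P ⧸ I) (v l) = ∑ k, r k l • y k := fun l => by
      rw [show algebraMap P (MvPolynomial (Fin q) P ⧸ I) (v l) = Ideal.Quotient.mkₐ R I (MvPolynomial.C (v l)) from rfl]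
      simp only [y, ← Ideal.Quotient.mkₐ_eq_mk R, ← map_smul, ← map_sum]
      rw [Ideal.Quotient.mkₐ_eq_mk, Ideal.Quotient.mk_eq_mk_iff_sub_mem]
      exact Ideal.subset_span ⟨l, rfl⟩
    rw [hv, map_sum]
    simp only [Algebra.TensorProduct.map_tmul, AlgHom.id_apply, IsScalarTower.coe_toAlgHom', hvl, sum_tmul,
      smul_tmul]
    rw [Finset.sum_comm]
    refine Finset.sum_eq_zero fun k _ => ?_
    rw [← tmul_sum, ← hπ₀sum, (hker _).2 (hr ▸ Submodule.subset_span ⟨k, rfl⟩), tmul_zero]
  · intro R' _ _ φ hφ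
    rw [hv, map_sum] at hφ
    simp only [Algebra.TensorProduct.map_tmul, AlgHom.id_apply] at hφ
    have h1 : ∑ l, μ l ⊗ₜ[R] φ (v l) = 0 := by
      have h2 := congrArg (TensorProduct.comm R R' C) hφ
      simpa only [map_sum, TensorProduct.comm_tmul, map_zero] using h2
    obtain ⟨κ, a, y, hy, ha⟩ := TensorProduct.vanishesTrivially_of_sum_tmul_eq_zero R hspan h1
    have hw : ∀ j, ∃ b : Fin q → R, ∑ k, b k • r k = fun l => a l j := fun j => by
      refine (Submodule.mem_span_range_iff_exists_fun R).1 ?_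
      rw [hr, ← hker, hπ₀sum]
      exact ha j
    choose b hb using hw
    let Y : Fin q → R' := fun k => ∑ j, b j k • y j
    have hY : ∀ l, φ (v l) = ∑ k, r k l • Y k := fun l => by
      rw [show φ (v l) = ∑ j, a l j • y j from hy l]
      simp only [Y, Finset.smul_sum, smul_smul]
      rw [Finset.sum_comm]
      refine Finset.sum_congr rfl fun j _ => ?_
      rw [← congrFun (hb j) l, Finset.sum_apply, Finset.sum_smul]
      exact Finset.sum_congr rfl fun k _ => by rw [Pi.smul_apply, smul_eq_mul, mul_comm]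
    let ev : MvPolynomial (Fin q) P →ₐ[R] R' :=
      { MvPolynomial.eval₂Hom (φ : P →+* R') Y with
        commutes' := fun t => by
          show MvPolynomial.eval₂Hom (φ : P →+* R') Y (algebraMap R (MvPolynomial (Fin q) P) t) = _
          rw [IsScalarTower.algebraMap_apply R P (MvPolynomial (Fin q) P), MvPolynomial.algebraMap_eq,
            MvPolynomial.eval₂Hom_C]
          exact φ.commutes t }
    have hevC : ∀ p, ev (MvPolynomial.C p) = φ p := fun p => MvPolynomial.eval₂Hom_C _ _ p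
    have hevX : ∀ k, ev (MvPolynomial.X k) = Y k := fun k => MvPolynomial.eval₂Hom_X' _ _ k
    have hI : ∀ z ∈ I, ev z = 0 := fun z hz => by
      refine (RingHom.mem_ker (f := (ev : MvPolynomial (Fin q) P →+* R'))).1 (Ideal.span_le.2 ?_ hz)
      rintro _ ⟨l, rfl⟩
      show ev (MvPolynomial.C (v l) - ∑ k, r k l • MvPolynomial.X k) = 0
      simp only [map_sub, map_sum, map_smul, hevC, hevX, hY, sub_self]
    exact ⟨Ideal.Quotient.liftₐ I ev hI, AlgHom.ext fun p => hevC p⟩

variable {j : C →ₐ[R] B} {s : ℕ} {h : Fin s → C}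

theorem IsChart.exists_notMem (H : IsChart j h) (q : PrimeSpectrum B) : ∃ i, j (h i) ∉ q.asIdeal := by
  by_contra hc
  push Not at hc
  refine q.2.ne_top (eq_top_iff.2 (H.span.ge.trans (Ideal.span_le.2 ?_)))
  rintro _ ⟨i, rfl⟩
  exact hc i

theorem IsChart.comap_injective (H : IsChart j h) : Function.Injective (PrimeSpectrum.comap (j : C →+* B)) := by
  have key : ∀ q q' : PrimeSpectrum B, PrimeSpectrum.comap (j : C →+* B) q = PrimeSpectrum.comap (j : C →+* B) q' →
      q.asIdeal ≤ q'.asIdeal := by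
    intro q q' hqq x hx
    have hiff : ∀ c, j c ∈ q.asIdeal ↔ j c ∈ q'.asIdeal := fun c =>
      iff_of_eq (congrArg (fun p : PrimeSpectrum C => c ∈ p.asIdeal) hqq)
    obtain ⟨i, hi⟩ := H.exists_notMem q'
    obtain ⟨n, c, hc⟩ := H.surj i x
    have h1 : j c ∈ q'.asIdeal := (hiff c).1 (hc ▸ q.asIdeal.mul_mem_left _ hx)
    rw [← hc] at h1
    exact (q'.2.mem_or_mem h1).resolve_left fun h2 => hi (q'.2.mem_of_pow_mem n h2)
  exact fun q q' hqq => PrimeSpectrum.ext (le_antisymm (key q q' hqq) (key q' q hqq.symm))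

theorem IsChart.mem_range_comap (H : IsChart j h) {p : PrimeSpectrum C} {i : Fin s} (hi : h i ∉ p.asIdeal) :
    p ∈ Set.range (PrimeSpectrum.comap (j : C →+* B)) := by
  rw [PrimeSpectrum.mem_range_comap_iff]
  refine le_antisymm (fun a ha => ?_) Ideal.le_comap_map
  have key : ∀ b ∈ Ideal.map (j : C →+* B) p.asIdeal, ∃ (n : ℕ) (c : C), c ∈ p.asIdeal ∧ j (h i) ^ n * b = j c := by
    intro b hb
    induction hb using Submodule.span_induction with
    | mem b hb => obtain ⟨c, hc, rfl⟩ := hb; exact ⟨0, c, hc, by simp⟩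
    | zero => exact ⟨0, 0, zero_mem _, by simp⟩
    | add b b' _ _ hb hb' =>
      obtain ⟨n, c, hc, e⟩ := hb
      obtain ⟨m, d, hd, e'⟩ := hb'
      refine ⟨n + m, h i ^ m * c + h i ^ n * d, add_mem (Ideal.mul_mem_left _ _ hc) (Ideal.mul_mem_left _ _ hd), ?_⟩
      rw [map_add, map_mul, map_mul, ← e, ← e', map_pow, map_pow]
      ring
    | smul t b _ hb =>
      obtain ⟨n, c, hc, e⟩ := hb
      obtain ⟨m, d, e'⟩ := H.surj i t
      refine ⟨m + n, d * c, Ideal.mul_mem_left _ _ hc, ?_⟩
      rw [map_mul, ← e, ← e', smul_eq_mul]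
      ring
  obtain ⟨n, c, hc, e⟩ := key (j a) ha
  obtain ⟨k, hk⟩ := H.inj i (h i ^ n * a - c) (by rw [map_sub, map_mul, map_pow, e, sub_self])
  have h1 : h i ^ n * a - c ∈ p.asIdeal :=
    (p.2.mem_or_mem (hk ▸ zero_mem _)).resolve_left fun h2 => hi (p.2.mem_of_pow_mem k h2)
  have h2 := add_mem h1 hc
  rw [sub_add_cancel] at h2
  exact (p.2.mem_or_mem h2).resolve_left fun h3 => hi (p.2.mem_of_pow_mem n h3)

/-- A finite clopen piece of the source of a chart comes from an idempotent of the target. -/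
theorem IsChart.exists_idempotent (H : IsChart j h) {ε : B} (hε : IsIdempotentElem ε)
    [Module.Finite R (Localization.Away ε)] :
    ∃ e : C, IsIdempotentElem e ∧ e ∈ Ideal.span (Set.range h) ∧ j e = ε := by
  let φ : C →ₐ[R] Localization.Away ε := (IsScalarTower.toAlgHom R B (Localization.Away ε)).comp j
  have hint : (φ : C →+* Localization.Away ε).IsIntegral := fun x => by
    have := (Algebra.IsIntegral.isIntegral (R := R) x)
    obtain ⟨p, hp, hx⟩ := this
    exact ⟨p.map (algebraMap R C), hp.map _, by rwa [Polynomial.eval₂_map, AlgHom.comp_algebraMap]⟩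
  let W : Set (PrimeSpectrum C) := Set.range (PrimeSpectrum.comap (φ : C →+* Localization.Away ε))
  have hW : W = PrimeSpectrum.comap (j : C →+* B) '' (PrimeSpectrum.basicOpen ε : Set (PrimeSpectrum B)) := by
    rw [← PrimeSpectrum.localization_away_comap_range (Localization.Away ε) ε, ← Set.range_comp]
    rfl
  have hcl : IsClosed W := (PrimeSpectrum.isClosedMap_comap_of_isIntegral _ hint).isClosed_range
  have hmem : ∀ q : PrimeSpectrum B, ∃ i, h i ∉ (PrimeSpectrum.comap (j : C →+* B) q).asIdeal := H.exists_notMem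
  have hop : IsOpen W := by
    refine isOpen_iff_forall_mem_open.2 fun p hp => ?_
    rw [hW] at hp
    obtain ⟨q, hq, rfl⟩ := hp
    obtain ⟨i, hi⟩ := H.exists_notMem q
    obtain ⟨n, c, hc⟩ := H.surj i ε
    refine ⟨PrimeSpectrum.basicOpen (c * h i), ?_, PrimeSpectrum.isOpen_basicOpen, ?_⟩
    · intro p hp
      rw [SetLike.mem_coe, PrimeSpectrum.mem_basicOpen] at hp
      have hpi : h i ∉ p.asIdeal := fun h' => hp (p.asIdeal.mul_mem_left c h')
      obtain ⟨q', rfl⟩ := H.mem_range_comap hpi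
      rw [hW]
      refine ⟨q', fun h' => hp (Ideal.mul_mem_right _ _ ?_), rfl⟩
      show j c ∈ q'.asIdeal
      exact hc ▸ q'.asIdeal.mul_mem_left _ h'
    · rw [SetLike.mem_coe, PrimeSpectrum.mem_basicOpen]
      intro h'
      change j (c * h i) ∈ q.asIdeal at h'
      rw [map_mul, ← hc] at h'
      rcases q.2.mem_or_mem h' with h' | h'
      · rcases q.2.mem_or_mem h' with h' | h'
        · exact hi (q.2.mem_of_pow_mem n h')
        · exact hq h'
      · exact hi h'
  obtain ⟨e, he, heW⟩ := PrimeSpectrum.isClopen_iff.1 ⟨hcl, hop⟩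
  refine ⟨e, he, ?_, ?_⟩
  · have h1 : e ∈ (Ideal.span (Set.range h)).radical := by
      rw [Ideal.radical_eq_sInf, Ideal.mem_sInf]
      rintro J ⟨hJ, hJp⟩
      by_contra heJ
      have : (⟨J, hJp⟩ : PrimeSpectrum C) ∈ W := heW ▸ heJ
      rw [hW] at this
      obtain ⟨q, -, hq⟩ := this
      obtain ⟨i, hi⟩ := hmem q
      rw [hq] at hi
      exact hi (hJ (Ideal.subset_span ⟨i, rfl⟩))
    obtain ⟨n, hn⟩ := h1
    cases n with
    | zero => exact Ideal.mul_mem_left _ e hn |> fun h' => by simpa using h'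
    | succ n => rwa [he.pow_succ_eq] at hn
  · refine PrimeSpectrum.basicOpen_injOn_isIdempotentElem (he.map j) hε (TopologicalSpace.Opens.ext (Set.ext fun q => ?_))
    constructor
    · intro hq
      have h1 : PrimeSpectrum.comap (j : C →+* B) q ∈ W := heW ▸ hq
      rw [hW] at h1
      obtain ⟨q₂, hq₂, he₂⟩ := h1
      exact H.comap_injective he₂ ▸ hq₂
    · intro hq
      have h1 : PrimeSpectrum.comap (j : C →+* B) q ∈ W := hW ▸ ⟨q, hq, rfl⟩
      rw [heW] at h1
      exact h1

/-- An idempotent supported in the chart cuts out a finite piece. -/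
theorem IsChart.finite_away (H : IsChart j h) [Module.Finite R C] {e : C} (he : IsIdempotentElem e)
    (hemem : e ∈ Ideal.span (Set.range h)) : Module.Finite R (Localization.Away (j e)) := by
  let φ : C →ₐ[R] Localization.Away (j e) := (IsScalarTower.toAlgHom R B (Localization.Away (j e))).comp j
  refine Module.Finite.of_surjective φ.toLinearMap fun z => ?_
  have h1 : algebraMap B (Localization.Away (j e)) (j e) = 1 :=
    (IsLocalization.Away.algebraMap_isUnit (j e)).mul_left_cancel (by rw [← map_mul, (he.map j).eq, mul_one])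
  obtain ⟨⟨x, ⟨_, n, rfl⟩⟩, hx⟩ := IsLocalization.surj (Submonoid.powers (j e)) z
  simp only [map_pow, h1, one_pow, mul_one] at hx
  let I : Ideal C :=
    { carrier := {a | ∃ c, j a * x = j c}
      add_mem' := fun {a b} ⟨c, hc⟩ ⟨d, hd⟩ => ⟨c + d, by rw [map_add, map_add, add_mul, hc, hd]⟩
      zero_mem' := ⟨0, by simp⟩
      smul_mem' := fun t a ⟨c, hc⟩ => ⟨t * c, by rw [smul_eq_mul, map_mul, map_mul, mul_assoc, hc]⟩ }
  have hI : Ideal.span (Set.range h) ≤ I.radical := Ideal.span_le.2 (by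
    rintro _ ⟨i, rfl⟩
    obtain ⟨m, c, hc⟩ := H.surj i x
    exact ⟨m, c, by rw [map_pow]; exact hc⟩)
  obtain ⟨m, hm⟩ := hI hemem
  have heI : e ∈ I := by
    cases m with
    | zero => have := I.mul_mem_left e hm; simpa using this
    | succ m => rwa [he.pow_succ_eq] at hm
  obtain ⟨c, hc⟩ := heI
  refine ⟨c, ?_⟩
  show algebraMap B (Localization.Away (j e)) (j c) = z
  rw [← hc, map_mul, h1, one_mul, hx]

variable (R B) in
/-- The universal finite clopen piece. -/
theorem exists_universal_idempotent [Module.FinitePresentation R C] (H : IsChart j h) :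
    ∃ (Ru : Type u) (_ : CommRing Ru) (_ : Algebra R Ru) (εu : Ru ⊗[R] B), Algebra.FinitePresentation R Ru ∧
      IsIdempotentElem εu ∧ Module.Finite Ru (Localization.Away εu) ∧
      ∀ (R' : Type u) [CommRing R'] [Algebra R R'] (ε : R' ⊗[R] B), IsIdempotentElem ε →
        Module.Finite R' (Localization.Away ε) →
          ∃ φ : Ru →ₐ[R] R', Algebra.TensorProduct.map φ (AlgHom.id R B) εu = ε := by
  classical
  obtain ⟨n, μ, hμ⟩ := Module.Finite.exists_fin (R := R) (M := C)
  let P := MvPolynomial (Fin s × Fin n) R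
  let eP : P ⊗[R] C := ∑ il : Fin s × Fin n, MvPolynomial.X il ⊗ₜ (h il.1 * μ il.2)
  obtain ⟨Ru, _, _, π, hfp, hzero, huniv⟩ := exists_universal_vanishing P (eP * eP - eP)
  let eu : Ru ⊗[R] C := Algebra.TensorProduct.map π (AlgHom.id R C) eP
  have hidem : IsIdempotentElem eu := by
    rw [map_sub, map_mul, sub_eq_zero] at hzero
    exact hzero
  have hmem : eu ∈ Ideal.span (Set.range fun i => (1 : Ru) ⊗ₜ[R] h i) := by
    simp only [eu, eP, map_sum, Algebra.TensorProduct.map_tmul, AlgHom.id_apply]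
    refine Ideal.sum_mem _ fun il _ => ?_
    rw [show π (MvPolynomial.X il) ⊗ₜ[R] (h il.1 * μ il.2) = (π (MvPolynomial.X il) ⊗ₜ μ il.2) * ((1 : Ru) ⊗ₜ h il.1) by
      rw [Algebra.TensorProduct.tmul_mul_tmul, mul_one, mul_comm]]
    exact Ideal.mul_mem_left _ _ (Ideal.subset_span ⟨il.1, rfl⟩)
  have Hu := H.baseChange Ru
  refine ⟨Ru, inferInstance, inferInstance, Algebra.TensorProduct.map (AlgHom.id Ru Ru) j eu, hfp, hidem.map _,
    Hu.finite_away hidem hmem, fun R' _ _ ε hε hfin => ?_⟩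
  have H' := H.baseChange R'
  obtain ⟨e, he, hemem, heε⟩ := H'.exists_idempotent hε
  obtain ⟨c, hc⟩ := Ideal.mem_span_range_iff_exists_fun.1 hemem
  have hc' : ∀ i, ∃ a : Fin n → R', c i = ∑ l, a l ⊗ₜ μ l := by
    intro i
    induction c i with
    | zero => exact ⟨0, by simp⟩
    | tmul p x =>
      obtain ⟨w, hw⟩ := (Submodule.mem_span_range_iff_exists_fun R).1 (hμ.ge (Submodule.mem_top (x := x)))
      exact ⟨fun l => w l • p, by rw [← hw, tmul_sum]; exact Finset.sum_congr rfl fun l _ => (smul_tmul _ _ _).symm⟩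
    | add x y hx hy =>
      obtain ⟨a, ha⟩ := hx
      obtain ⟨b, hb⟩ := hy
      exact ⟨a + b, by rw [ha, hb, ← Finset.sum_add_distrib]; exact Finset.sum_congr rfl fun l _ => (add_tmul _ _ _).symm⟩
  choose a ha using hc'
  let φ₀ : P →ₐ[R] R' := MvPolynomial.aeval fun il : Fin s × Fin n => a il.1 il.2
  have hφ₀ : Algebra.TensorProduct.map φ₀ (AlgHom.id R C) eP = e := by
    rw [← hc, map_sum, Fintype.sum_prod_type]
    refine Finset.sum_congr rfl fun i _ => ?_
    rw [ha i, Finset.sum_mul]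
    refine Finset.sum_congr rfl fun l _ => ?_
    rw [Algebra.TensorProduct.map_tmul, Algebra.TensorProduct.tmul_mul_tmul, AlgHom.id_apply, mul_one, mul_comm (μ l)]
    show _ ⊗ₜ[R] _ = _
    rw [MvPolynomial.aeval_X]
  obtain ⟨φ, hφ⟩ := huniv R' φ₀ (by rw [map_sub, map_mul, hφ₀, he.eq, sub_self])
  refine ⟨φ, ?_⟩
  rw [← heε, ← hφ₀, ← hφ]
  have key : ∀ z : P ⊗[R] C, Algebra.TensorProduct.map φ (AlgHom.id R B)
      (Algebra.TensorProduct.map (AlgHom.id Ru Ru) j (Algebra.TensorProduct.map π (AlgHom.id R C) z)) =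
      Algebra.TensorProduct.map (AlgHom.id R' R') j (Algebra.TensorProduct.map (φ.comp π) (AlgHom.id R C) z) := by
    intro z
    induction z with
    | zero => simp
    | tmul p x => simp
    | add x y hx hy => simp only [map_add, hx, hy]
  exact key eP

end Groth.Agent.QFUnivLib
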