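import Mathlib

/-!
# Finitely presented finite models of quasi-finite algebras and universal idempotents
-/

universe u
set_option autoImplicit false
open TensorProduct

namespace Groth.Agent.QFUnivLib

variable {R B C : Type u} [CommRing R] [CommRing B] [CommRing C] [Algebra R B] [Algebra R C]

/-- `Spec B → Spec C` is an open immersion with range the union of the `D(h i)`, elementwise. -/
structure IsChart (j : C →ₐ[R] B) {s : ℕ} (h : Fin s → C) : Prop where
  span : Ideal.span (Set.range fun i => j (h i)) = ⊤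
  surj : ∀ i x, ∃ (n : ℕ) (c : C), j (h i) ^ n * x = j c
  inj : ∀ i c, j c = 0 → ∃ n : ℕ, h i ^ n * c = 0

/-- A finite algebra admits a surjection from a finitely presented one. -/
theorem exists_finitePresentation_surjective [Module.Finite R C] :
    ∃ (C₀ : Type u) (_ : CommRing C₀) (_ : Algebra R C₀) (π : C₀ →ₐ[R] C),
      Module.Finite R C₀ ∧ Algebra.FinitePresentation R C₀ ∧ Function.Surjective π := by
  classical
  obtain ⟨n, φ, hφ⟩ := Algebra.FiniteType.iff_quotient_mvPolynomial''.1 (inferInstance : Algebra.FiniteType R C)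
  have hint : ∀ l, IsIntegral R (φ (MvPolynomial.X l)) := fun l => Algebra.IsIntegral.isIntegral _
  choose p hp hp0 using hint
  let I : Ideal (MvPolynomial (Fin n) R) :=
    Ideal.span (Set.range fun l => Polynomial.aeval (MvPolynomial.X l) (p l))
  have hI : ∀ x ∈ I, φ x = 0 := by
    intro x hx
    refine (RingHom.mem_ker (f := (φ : MvPolynomial (Fin n) R →+* C))).1 (Ideal.span_le.2 ?_ hx)
    rintro _ ⟨l, rfl⟩
    show φ (Polynomial.aeval (MvPolynomial.X l) (p l)) = 0
    rw [← Polynomial.aeval_algHom_apply]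
    exact hp0 l
  have hfp : Algebra.FinitePresentation R (MvPolynomial (Fin n) R ⧸ I) :=
    Algebra.FinitePresentation.quotient (Submodule.fg_span (Set.finite_range _))
  have : Algebra.IsIntegral R (MvPolynomial (Fin n) R ⧸ I) := by
    refine ⟨fun x => ?_⟩
    obtain ⟨x, rfl⟩ := Ideal.Quotient.mk_surjective x
    induction x using MvPolynomial.induction_on with
    | C a => exact isIntegral_algebraMap (x := a)
    | add a b ha hb => rw [map_add]; exact ha.add hb
    | mul_X a l ha =>
      rw [map_mul]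
      refine ha.mul ⟨p l, hp l, ?_⟩
      show Polynomial.aeval (Ideal.Quotient.mkₐ R I (MvPolynomial.X l)) (p l) = 0
      rw [Polynomial.aeval_algHom_apply]
      exact Ideal.Quotient.eq_zero_iff_mem.2 (Ideal.subset_span ⟨l, rfl⟩)
  exact ⟨MvPolynomial (Fin n) R ⧸ I, inferInstance, inferInstance, Ideal.Quotient.liftₐ I φ hI,
    Algebra.IsIntegral.finite, hfp, fun c => by obtain ⟨x, rfl⟩ := hφ c; exact ⟨Ideal.Quotient.mk I x, rfl⟩⟩

/-- Surjectivity of a map of localizations, elementwise. -/
theorem surjective_of_away {C B L B' : Type u} [CommRing C] [CommRing B] [CommRing L] [CommRing B'] [Algebra C L]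
    [Algebra B B'] (h : C) [IsLocalization.Away h L] (φ : C →+* B) [IsLocalization.Away (φ h) B'] (ψ : L →+* B')
    (hψ : ∀ c, ψ (algebraMap C L c) = algebraMap B B' (φ c))
    (hs : ∀ x, ∃ (n : ℕ) (c : C), φ h ^ n * x = φ c) : Function.Surjective ψ := fun z => by
  obtain ⟨⟨x, ⟨_, m, rfl⟩⟩, hxm⟩ := IsLocalization.surj (Submonoid.powers (φ h)) z
  change z * algebraMap B B' (φ h ^ m) = algebraMap B B' x at hxm
  obtain ⟨n, c, hc⟩ := hs x
  refine ⟨algebraMap C L c * IsLocalization.Away.invSelf h ^ (n + m), ?_⟩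
  have hu : IsUnit (algebraMap B B' (φ h ^ (n + m))) := by
    rw [map_pow]; exact (IsLocalization.Away.algebraMap_isUnit _).pow _
  refine hu.mul_right_cancel ?_
  have e : algebraMap B B' (φ h ^ (n + m)) = ψ (algebraMap C L h ^ (n + m)) := by
    rw [← map_pow (algebraMap C L), hψ, map_pow φ]
  conv_lhs => rw [e, ← map_mul, mul_assoc, ← mul_pow, mul_comm (IsLocalization.Away.invSelf h),
    IsLocalization.Away.mul_invSelf, one_pow, mul_one, hψ, ← hc, map_mul, ← hxm]
  rw [pow_add, map_mul]
  ring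

/-- From a finite algebra to a finitely presented finite one, keeping the chart. -/
theorem exists_fp_chart [Algebra.FinitePresentation R B] [Module.Finite R C] (j : C →ₐ[R] B) {s : ℕ}
    (h : Fin s → C) (hspan : Ideal.span (Set.range fun i => j (h i)) = ⊤)
    (hsurj : ∀ i x, ∃ (n : ℕ) (c : C), j (h i) ^ n * x = j c) :
    ∃ (C₁ : Type u) (_ : CommRing C₁) (_ : Algebra R C₁) (j₁ : C₁ →ₐ[R] B) (h₁ : Fin s → C₁),
      Module.FinitePresentation R C₁ ∧ IsChart j₁ h₁ := by
  classical
  obtain ⟨C₀, _, _, π, _, _, hπ⟩ := exists_finitePresentation_surjective (R := R) (C := C)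
  let j₀ : C₀ →ₐ[R] B := j.comp π
  choose h₀ hh₀ using fun i => hπ (h i)
  have key : ∀ i, ∃ K : Finset C₀, (∀ a ∈ K, j₀ a = 0) ∧
      ∀ c, j₀ c = 0 → ∃ n : ℕ, h₀ i ^ n * c ∈ Ideal.span (K : Set C₀) := by
    intro i
    let L := Localization.Away (h₀ i)
    let B' := Localization.Away (j (h i))
    let ψ : L →ₐ[R] B' := IsLocalization.liftAlgHom (M := Submonoid.powers (h₀ i))
      (f := (IsScalarTower.toAlgHom R B B').comp j₀) (by
        rintro ⟨_, n, rfl⟩
        show IsUnit (algebraMap B B' (j (π (h₀ i ^ n))))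
        rw [map_pow, map_pow, map_pow, hh₀]
        exact (IsLocalization.Away.algebraMap_isUnit _).pow n)
    have hψ : ∀ c, ψ (algebraMap C₀ L c) = algebraMap B B' (j₀ c) := fun c => by
      simp [ψ, L, B']
    have : IsLocalization.Away ((j₀ : C₀ →+* B) (h₀ i)) B' := by
      rw [show (j₀ : C₀ →+* B) (h₀ i) = j (h i) from congrArg j (hh₀ i)]; infer_instance
    have hψs : Function.Surjective ψ := surjective_of_away (h₀ i) (j₀ : C₀ →+* B) (ψ : L →+* B') hψ fun x => by
      obtain ⟨n, c, hc⟩ := hsurj i x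
      obtain ⟨c, rfl⟩ := hπ c
      exact ⟨n, c, by show j (π (h₀ i)) ^ n * x = j (π c); rw [hh₀]; exact hc⟩
    have : Algebra.FinitePresentation C₀ L := IsLocalization.Away.finitePresentation (h₀ i)
    have : Algebra.FinitePresentation R L := Algebra.FinitePresentation.trans R C₀ L
    have : Algebra.FinitePresentation B B' := IsLocalization.Away.finitePresentation (j (h i))
    have : Algebra.FinitePresentation R B' := Algebra.FinitePresentation.trans R B B'
    obtain ⟨T, hT⟩ := Algebra.FinitePresentation.ker_fG_of_surjective ψ hψs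
    have hnum : ∀ t ∈ T, ∃ (a : C₀) (u : L), j₀ a = 0 ∧ algebraMap C₀ L a * u = t := by
      intro t ht
      obtain ⟨⟨a, ⟨_, m, rfl⟩⟩, ham⟩ := IsLocalization.surj (Submonoid.powers (h₀ i)) t
      have h0 : algebraMap B B' (j₀ a) = 0 := by
        rw [← hψ, ← ham, map_mul, show ψ t = 0 from hT.le (Submodule.subset_span ht), zero_mul]
      obtain ⟨⟨_, n, rfl⟩, hn⟩ := (IsLocalization.map_eq_zero_iff (Submonoid.powers (j (h i))) B' _).1 h0
      have hu : IsUnit (algebraMap C₀ L (h₀ i ^ (n + m))) := by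
        rw [map_pow]; exact (IsLocalization.Away.algebraMap_isUnit _).pow _
      refine ⟨h₀ i ^ n * a, ↑hu.unit⁻¹, ?_, ?_⟩
      · rw [map_mul, map_pow, show j₀ (h₀ i) = j (h i) from congrArg j (hh₀ i)]; exact hn
      · change t * algebraMap C₀ L (h₀ i ^ m) = algebraMap C₀ L a at ham
        rw [map_mul (algebraMap C₀ L), ← ham, show algebraMap C₀ L (h₀ i ^ n) * (t * algebraMap C₀ L (h₀ i ^ m)) =
            t * algebraMap C₀ L (h₀ i ^ (n + m)) by rw [pow_add, map_mul]; ring,
          mul_assoc, IsUnit.mul_val_inv, mul_one]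
    choose a u ha hau using hnum
    refine ⟨T.attach.image fun t => a t.1 t.2, fun x hx => by
      obtain ⟨t, -, rfl⟩ := Finset.mem_image.1 hx; exact ha _ _, fun c hc => ?_⟩
    have hker : algebraMap C₀ L c ∈ (Ideal.span (T.attach.image fun t => a t.1 t.2 : Set C₀)).map (algebraMap C₀ L) := by
      have h1 : algebraMap C₀ L c ∈ Ideal.span (T : Set L) := hT.ge (show ψ _ = 0 by rw [hψ, hc, map_zero])
      refine Ideal.span_le.2 (fun t ht => ?_) h1
      rw [← hau t ht]
      exact Ideal.mul_mem_right _ _ (Ideal.mem_map_of_mem _ (Ideal.subset_span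
        (Finset.mem_coe.2 (Finset.mem_image.2 ⟨⟨t, ht⟩, Finset.mem_attach _ _, rfl⟩))))
    obtain ⟨_, ⟨n, rfl⟩, hn⟩ := (IsLocalization.algebraMap_mem_map_algebraMap_iff (Submonoid.powers (h₀ i)) L _ _).1 hker
    exact ⟨n, hn⟩
  choose K hK hKn using key
  let I : Ideal C₀ := Ideal.span ((Finset.univ.biUnion K : Finset C₀) : Set C₀)
  have hI : ∀ x ∈ I, j₀ x = 0 := fun x hx => by
    refine (RingHom.mem_ker (f := (j₀ : C₀ →+* B))).1 (Ideal.span_le.2 (fun a ha => ?_) hx)
    obtain ⟨i, -, hi⟩ := Finset.mem_biUnion.1 ha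
    exact hK i a hi
  have : Algebra.FinitePresentation R (C₀ ⧸ I) := Algebra.FinitePresentation.quotient ⟨_, rfl⟩
  have : Module.Finite R (C₀ ⧸ I) := Module.Finite.of_surjective (Ideal.Quotient.mkₐ R I).toLinearMap Ideal.Quotient.mk_surjective
  refine ⟨C₀ ⧸ I, inferInstance, inferInstance, Ideal.Quotient.liftₐ I j₀ hI, fun i => Ideal.Quotient.mk I (h₀ i),
    Module.FinitePresentation.of_finite_of_finitePresentation R _, ⟨?_, fun i x => ?_, fun i c hc => ?_⟩⟩
  · show Ideal.span (Set.range fun i => j (π (h₀ i))) = ⊤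
    simp only [hh₀]; exact hspan
  · obtain ⟨n, c, hc⟩ := hsurj i x
    obtain ⟨c, rfl⟩ := hπ c
    exact ⟨n, Ideal.Quotient.mk I c, by show j (π (h₀ i)) ^ n * x = j (π c); rw [hh₀]; exact hc⟩
  · obtain ⟨c, rfl⟩ := Ideal.Quotient.mk_surjective c
    obtain ⟨n, hn⟩ := hKn i c hc
    refine ⟨n, ?_⟩
    rw [← map_pow, ← map_mul, Ideal.Quotient.eq_zero_iff_mem]
    exact Ideal.span_mono (fun a ha => Finset.mem_coe.2 (Finset.mem_biUnion.2 ⟨i, Finset.mem_univ _, ha⟩)) hn

/-- A chart stays a chart after base change. -/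
theorem IsChart.baseChange {j : C →ₐ[R] B} {s : ℕ} {h : Fin s → C} (H : IsChart j h) (R' : Type u) [CommRing R']
    [Algebra R R'] : IsChart (Algebra.TensorProduct.map (AlgHom.id R' R') j) (fun i => (1 : R') ⊗ₜ[R] h i) := by
  classical
  refine ⟨?_, fun i x => ?_, fun i z hz => ?_⟩
  · have h1 := congrArg (Ideal.map (Algebra.TensorProduct.includeRight : B →ₐ[R] R' ⊗[R] B)) H.span
    rw [Ideal.map_span, Ideal.map_top, ← Set.range_comp] at h1
    exact h1
  · show ∃ (n : ℕ) (c : R' ⊗[R] C), Algebra.TensorProduct.map (AlgHom.id R' R') j ((1 : R') ⊗ₜ[R] h i) ^ n * x = _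
    rw [Algebra.TensorProduct.map_tmul, AlgHom.id_apply]
    induction x with
    | zero => exact ⟨0, 0, by simp⟩
    | tmul r x =>
      obtain ⟨n, c, hc⟩ := H.surj i x
      exact ⟨n, r ⊗ₜ c, by
        rw [Algebra.TensorProduct.tmul_pow, one_pow, Algebra.TensorProduct.tmul_mul_tmul, one_mul,
          Algebra.TensorProduct.map_tmul, AlgHom.id_apply, hc]⟩
    | add x y hx hy =>
      obtain ⟨n, c, hc⟩ := hx
      obtain ⟨m, d, hd⟩ := hy
      refine ⟨n + m, (1 ⊗ₜ h i) ^ m * c + (1 ⊗ₜ h i) ^ n * d, ?_⟩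
      rw [map_add, map_mul, map_mul, ← hc, ← hd, map_pow, map_pow, Algebra.TensorProduct.map_tmul, AlgHom.id_apply]
      ring
  · let L := Localization.Away (h i)
    let B' := Localization.Away (j (h i))
    let ψ : L →ₐ[R] B' := IsLocalization.liftAlgHom (M := Submonoid.powers (h i))
      (f := (IsScalarTower.toAlgHom R B B').comp j) (by
        rintro ⟨_, n, rfl⟩
        show IsUnit (algebraMap B B' (j (h i ^ n)))
        rw [map_pow, map_pow]
        exact (IsLocalization.Away.algebraMap_isUnit _).pow n)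
    have hψ : ∀ c, ψ (algebraMap C L c) = algebraMap B B' (j c) := fun c => by simp [ψ, L, B']
    have hψb : Function.Bijective ψ := by
      constructor
      · refine (injective_iff_map_eq_zero ψ).2 fun z hz => ?_
        obtain ⟨⟨c, ⟨_, m, rfl⟩⟩, hcm⟩ := IsLocalization.surj (Submonoid.powers (h i)) z
        have h0 : algebraMap B B' (j c) = 0 := by rw [← hψ, ← hcm, map_mul, hz, zero_mul]
        obtain ⟨⟨_, n, rfl⟩, hn⟩ := (IsLocalization.map_eq_zero_iff (Submonoid.powers (j (h i))) B' _).1 h0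
        obtain ⟨k, hk⟩ := H.inj i (h i ^ n * c) (by rw [map_mul, map_pow]; exact hn)
        have h2 : algebraMap C L c = 0 := (IsLocalization.map_eq_zero_iff (Submonoid.powers (h i)) L _).2
          ⟨⟨h i ^ (k + n), k + n, rfl⟩, by show h i ^ (k + n) * c = 0; rw [pow_add, mul_assoc]; exact hk⟩
        rw [h2] at hcm
        exact (IsLocalization.map_units L _).mul_left_eq_zero.1 hcm
      · have : IsLocalization.Away ((j : C →+* B) (h i)) B' := inferInstanceAs (IsLocalization.Away (j (h i)) B')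
        exact surjective_of_away (h i) (j : C →+* B) (ψ : L →+* B') hψ (H.surj i)
    let e := AlgEquiv.ofBijective ψ hψb
    let inv : B →ₐ[R] L := e.symm.toAlgHom.comp (IsScalarTower.toAlgHom R B B')
    have hinv : inv.comp j = IsScalarTower.toAlgHom R C L := AlgHom.ext fun c => by
      show e.symm (algebraMap B B' (j c)) = algebraMap C L c
      rw [← hψ]; exact e.symm_apply_apply _
    have h1 : Algebra.TensorProduct.map (AlgHom.id R' R') (IsScalarTower.toAlgHom R C L) z = 0 := by
      rw [← hinv, ← AlgHom.id_comp (AlgHom.id R' R'), Algebra.TensorProduct.map_comp, AlgHom.comp_apply, hz, map_zero]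
    let eL := IsLocalization.Away.tensorProductEquivTMulRight R R' (h i) L
    have h2 : ∀ z, eL (Algebra.TensorProduct.map (AlgHom.id R' R') (IsScalarTower.toAlgHom R C L) z) =
        algebraMap (R' ⊗[R] C) (Localization.Away ((1 : R') ⊗ₜ[R] h i)) z := by
      intro z
      induction z with
      | zero => simp
      | tmul r c => simp [eL]
      | add x y hx hy => rw [map_add, map_add, hx, hy, map_add]
    have h3 : algebraMap (R' ⊗[R] C) (Localization.Away ((1 : R') ⊗ₜ[R] h i)) z = 0 := by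
      rw [← h2, h1, map_zero]
    obtain ⟨⟨_, n, rfl⟩, hn⟩ := (IsLocalization.map_eq_zero_iff (Submonoid.powers ((1 : R') ⊗ₜ[R] h i)) _ _).1 h3
    exact ⟨n, hn⟩

end Groth.Agent.QFUnivLib
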