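import Groth.Agent.QFUnivLib.Idem
import Groth.Agent.LocImmLib.ZMT

/-!
# Scheme form of the universal finite open of a quasi-finite morphism of affine schemes
-/

universe u
set_option autoImplicit false
open AlgebraicGeometry CategoryTheory CategoryTheory.Limits TensorProduct

namespace Groth.Agent.QFUnivLib

set_option backward.isDefEq.respectTransparency.types false in
instance instRespectsIsoIsFinite : MorphismProperty.RespectsIso @IsFinite.{u} :=
  MorphismProperty.IsStableUnderBaseChange.respectsIso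

/-- Basic opens of a spectrum as opens of the scheme. -/
noncomputable abbrev specBasicOpen {B' : Type u} [CommRing B'] (ε : B') : (Spec (CommRingCat.of B')).Opens :=
  PrimeSpectrum.basicOpen ε

variable {X Y : Scheme.{u}} [IsAffine X] [IsAffine Y] (f : X ⟶ Y)

/-- The algebra structure of the global sections of an affine scheme over an affine scheme. -/
@[reducible] noncomputable def gAlgebra : Algebra Γ(Y, ⊤) Γ(X, ⊤) := f.appTop.hom.toAlgebra

/-- An open immersion into a finite affine scheme gives a chart. -/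
theorem exists_chart [LocallyQuasiFinite f] [LocallyOfFinitePresentation f] :
    letI := gAlgebra f
    ∃ (C : Type u) (_ : CommRing C) (_ : Algebra Γ(Y, ⊤) C) (j : C →ₐ[Γ(Y, ⊤)] Γ(X, ⊤)) (s : ℕ) (h : Fin s → C),
      Module.FinitePresentation Γ(Y, ⊤) C ∧ IsChart j h := by
  let := gAlgebra f
  have hfp : Algebra.FinitePresentation Γ(Y, ⊤) Γ(X, ⊤) :=
    (HasRingHomProperty.iff_of_isAffine (P := @LocallyOfFinitePresentation) (f := f)).1 inferInstance
  obtain ⟨T, j, π, _, _, _, hjπ⟩ := LocImmLib.exists_openImmersion_finite f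
  have : IsAffine T := isAffine_of_isAffineHom π
  let : Algebra Γ(Y, ⊤) Γ(T, ⊤) := π.appTop.hom.toAlgebra
  have : Module.Finite Γ(Y, ⊤) Γ(T, ⊤) := π.finite_app ⊤ (isAffineOpen_top Y)
  let jA : Γ(T, ⊤) →ₐ[Γ(Y, ⊤)] Γ(X, ⊤) :=
    { j.appTop.hom with
      commutes' := fun y => by
        show j.appTop.hom (π.appTop.hom y) = f.appTop.hom y
        rw [← hjπ, Scheme.Hom.comp_appTop]; rfl }
  obtain ⟨S, hS⟩ : ∃ S : Finset Γ(T, ⊤), (j.opensRange : Set T) = ⋃ a ∈ S, (T.basicOpen a : Set T) := by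
    have hc : IsCompact (j.opensRange : Set T) := isCompact_range j.continuous
    obtain ⟨s, hs, e⟩ := isCompact_and_isOpen_iff_finite_and_eq_biUnion_basicOpen.1 ⟨hc, j.opensRange.2⟩
    exact ⟨hs.toFinset, by simpa using e⟩
  obtain ⟨s, h, hh⟩ : ∃ (s : ℕ) (h : Fin s → Γ(T, ⊤)), Set.range h = (S : Set Γ(T, ⊤)) :=
    ⟨_, fun i => (S.equivFin.symm i : Γ(T, ⊤)), by
      ext a
      exact ⟨by rintro ⟨i, rfl⟩; exact (S.equivFin.symm i).2, fun ha => ⟨S.equivFin ⟨a, ha⟩, by simp⟩⟩⟩
  have hle : ∀ i, T.basicOpen (h i) ≤ j.opensRange := fun i x hx =>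
    hS.ge (Set.mem_biUnion (Finset.mem_coe.1 (hh ▸ Set.mem_range_self i)) hx)
  have hspan : Ideal.span (Set.range fun i => jA (h i)) = ⊤ := by
    rw [← (isAffineOpen_top X).self_le_iSup_basicOpen_iff]
    intro x _
    have hx : j x ∈ (j.opensRange : Set T) := ⟨x, rfl⟩
    rw [hS, Set.mem_iUnion₂] at hx
    obtain ⟨a, ha, hxa⟩ := hx
    obtain ⟨i, rfl⟩ := (hh.ge (Finset.mem_coe.2 ha) : a ∈ Set.range h)
    refine TopologicalSpace.Opens.mem_iSup.2 ⟨⟨jA (h i), i, rfl⟩, ?_⟩
    show x ∈ X.basicOpen (j.appTop (h i))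
    rw [← Scheme.preimage_basicOpen_top]
    exact hxa
  have hsurj : ∀ i x, ∃ (n : ℕ) (c : Γ(T, ⊤)), jA (h i) ^ n * x = jA c := by
    intro i x
    have := (isAffineOpen_top T).isLocalization_basicOpen (h i)
    have := (isAffineOpen_top X).isLocalization_basicOpen (j.appTop (h i))
    have : IsIso (j.app (T.basicOpen (h i))) := j.isIso_app _ (hle i)
    let resX : Γ(X, ⊤) ⟶ Γ(X, j ⁻¹ᵁ T.basicOpen (h i)) := X.presheaf.map (homOfLE le_top).op
    let y := inv (j.app (T.basicOpen (h i))) (resX x)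
    obtain ⟨⟨c, ⟨_, n, rfl⟩⟩, hc⟩ := IsLocalization.surj (Submonoid.powers (h i)) y
    have h1 : resX (j.appTop (h i) ^ n * x - j.appTop c) = 0 := by
      have hnat : ∀ z, j.app (T.basicOpen (h i)) (algebraMap Γ(T, ⊤) Γ(T, T.basicOpen (h i)) z) = resX (j.appTop z) :=
        fun z => congr($(j.naturality (homOfLE (le_top : T.basicOpen (h i) ≤ ⊤)).op) z)
      have hc2 := congrArg (j.app (T.basicOpen (h i))) hc
      rw [map_mul, hnat, hnat, show j.app (T.basicOpen (h i)) y = resX x from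
        congr($(IsIso.inv_hom_id (j.app (T.basicOpen (h i)))) (resX x))] at hc2
      rw [map_sub, map_mul, sub_eq_zero, mul_comm, ← hc2]
      simp [map_pow]
    have hpre : j ⁻¹ᵁ T.basicOpen (h i) = X.basicOpen (j.appTop (h i)) := Scheme.preimage_basicOpen_top j _
    have h2 : algebraMap Γ(X, ⊤) Γ(X, X.basicOpen (j.appTop (h i))) (j.appTop (h i) ^ n * x - j.appTop c) = 0 := by
      have h3 := congrArg (X.presheaf.map (homOfLE hpre.ge).op) h1
      rw [map_zero, ← ConcreteCategory.comp_apply, ← X.presheaf.map_comp] at h3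
      exact h3
    obtain ⟨⟨_, m, rfl⟩, hm⟩ := (IsLocalization.map_eq_zero_iff (Submonoid.powers (j.appTop (h i))) _ _).1 h2
    refine ⟨m + n, h i ^ m * c, ?_⟩
    show j.appTop (h i) ^ (m + n) * x = j.appTop (h i ^ m * c)
    rw [map_mul, map_pow, pow_add]
    have h4 : j.appTop (h i) ^ m * (j.appTop (h i) ^ n * x - j.appTop c) = 0 := hm
    linear_combination h4
  obtain ⟨C, _, _, j₁, h₁, hC, H⟩ := exists_fp_chart jA h hspan hsurj
  exact ⟨C, inferInstance, inferInstance, j₁, s, h₁, hC, H⟩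

/-- Base change of an affine morphism to an algebra. -/
theorem isPullback_base (R' : Type u) [CommRing R'] [Algebra Γ(Y, ⊤) R'] :
    letI := gAlgebra f
    IsPullback
      (Spec.map (CommRingCat.ofHom (Algebra.TensorProduct.includeRight : Γ(X, ⊤) →ₐ[Γ(Y, ⊤)] R' ⊗[Γ(Y, ⊤)] Γ(X, ⊤)).toRingHom) ≫ X.isoSpec.inv)
      (Spec.map (CommRingCat.ofHom (Algebra.TensorProduct.includeLeftRingHom : R' →+* R' ⊗[Γ(Y, ⊤)] Γ(X, ⊤))))
      f (Spec.map (CommRingCat.ofHom (algebraMap Γ(Y, ⊤) R')) ≫ Y.isoSpec.inv) := by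
  let := gAlgebra f
  have h1 := (isPullback_SpecMap_of_isPushout _ _ _ _ (CommRingCat.isPushout_tensorProduct Γ(Y, ⊤) R' Γ(X, ⊤))).flip
  refine h1.of_iso (Iso.refl _) X.isoSpec.symm (Iso.refl _) Y.isoSpec.symm ?_ ?_ ?_ ?_
  · exact Category.id_comp _ |>.symm
  · simp
  · show Spec.map f.appTop ≫ Y.isoSpec.inv = X.isoSpec.inv ≫ f
    rw [Scheme.isoSpec_inv_naturality]
  · exact Category.id_comp _ |>.symm

/-- The open set cut out by an element is finite over the base iff the localization is a finite module. -/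
theorem isFinite_basicOpen_iff {R' B' : Type u} [CommRing R'] [CommRing B'] [Algebra R' B'] (ε : B') :
    IsFinite ((specBasicOpen ε).ι ≫ Spec.map (CommRingCat.ofHom (algebraMap R' B'))) ↔
      Module.Finite R' (Localization.Away ε) := by
  let i := Spec.map (CommRingCat.ofHom (algebraMap B' (Localization.Away ε)))
  have : IsOpenImmersion i := IsOpenImmersion.of_isLocalization ε
  let e := IsOpenImmersion.isoOfRangeEq i ((specBasicOpen ε).ι) (by
    rw [Scheme.Opens.range_ι]; exact PrimeSpectrum.localization_away_comap_range (Localization.Away ε) ε)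
  rw [← MorphismProperty.cancel_left_of_respectsIso (P := @IsFinite) e.hom, IsOpenImmersion.isoOfRangeEq_hom_fac_assoc,
    ← Spec.map_comp, IsFinite.SpecMap_iff]
  exact Iff.of_eq (congrArg RingHom.Finite (IsScalarTower.algebraMap_eq R' B' (Localization.Away ε)).symm) |>.trans
    RingHom.finite_algebraMap

theorem isFinite_of_iso {W Z Y₁ Y₂ : Scheme.{u}} (e : W ≅ Z) (g : Y₁ ≅ Y₂) (p : W ⟶ Y₁) (q : Z ⟶ Y₂)
    (h : p ≫ g.hom = e.hom ≫ q) (U : Z.Opens) : IsFinite ((e.hom ⁻¹ᵁ U).ι ≫ p) ↔ IsFinite (U.ι ≫ q) := by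
  have h1 : ((e.hom ⁻¹ᵁ U).ι ≫ p) ≫ g.hom = (e.hom ∣_ U) ≫ (U.ι ≫ q) := by
    rw [Category.assoc, h, morphismRestrict_ι_assoc]
  rw [← MorphismProperty.cancel_right_of_respectsIso (P := @IsFinite) _ g.hom, h1,
    MorphismProperty.cancel_left_of_respectsIso (P := @IsFinite)]

/-- An open of an affine scheme finite over an affine base is cut out by an idempotent. -/
theorem exists_idempotent_of_isFinite {R' B' : Type u} [CommRing R'] [CommRing B'] [Algebra R' B']
    (V : (Spec (CommRingCat.of B')).Opens) [IsFinite (V.ι ≫ Spec.map (CommRingCat.ofHom (algebraMap R' B')))] :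
    ∃ ε : B', IsIdempotentElem ε ∧ V = specBasicOpen ε ∧ Module.Finite R' (Localization.Away ε) := by
  have hp : IsProper V.ι := IsProper.of_comp V.ι (Spec.map (CommRingCat.ofHom (algebraMap R' B')))
  have hcl : IsClosed (V : Set (Spec (CommRingCat.of B'))) := by
    rw [← Scheme.Opens.range_ι]
    exact V.ι.isClosedMap.isClosed_range
  obtain ⟨ε, hε, hV⟩ := PrimeSpectrum.isClopen_iff.1 (⟨hcl, V.2⟩ : IsClopen (V : Set (Spec (CommRingCat.of B'))))
  have hV' : V = specBasicOpen ε := TopologicalSpace.Opens.ext hV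
  subst hV'
  exact ⟨ε, hε, rfl, (isFinite_basicOpen_iff ε).1 inferInstance⟩

end Groth.Agent.QFUnivLib
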